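import Mathlib
import Cfsg.Agent.Lib.BlockNear.Main
import Cfsg.Agent.Lib.Conjugacy.TransferEngel
import Cfsg.Agent.Lib.Conjugacy.KInfElement
import Cfsg.Agent.Lib.Coprime.Action

/-!
For an odd prime, the focal subgroup of a Sylow `p`-subgroup is generated by its intersections with
the derived subgroups of the normalizers of its nontrivial characteristic subgroups, given the
local `C*(G,T)` block structure in groups of characteristic `p`.
-/

set_option autoImplicit false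
set_option linter.style.haveILetI false
set_option linter.unusedSectionVars false

open scoped commutatorElement
open scoped MatrixGroups

namespace CfsgLib.CGTFocal

universe u

open CfsgLib.SubBlock CfsgLib.Conjugacy

section functor

variable {p : ℕ} [hp : Fact p.Prime] {T : Type u} [Group T]

/-- The functor with value the characteristic subgroup `K` on copies of `T`. -/
noncomputable def charFunctor (K : Subgroup T) (Q : Type u) [Group Q] : Subgroup Q :=
  letI := Classical.propDecidable (Nonempty (T ≃* Q))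
  if h : Nonempty (T ≃* Q) then K.map h.some.toMonoidHom else Subgroup.center Q

theorem charFunctor_iso {K : Subgroup T} (hK : K.Characteristic) {Q : Type u} [Group Q]
    (e : T ≃* Q) : charFunctor K Q = K.map e.toMonoidHom := by
  rw [charFunctor, dif_pos ⟨e⟩]
  set f := (⟨e⟩ : Nonempty (T ≃* Q)).some
  conv_rhs => rw [← Subgroup.characteristic_iff_map_eq.1 hK (f.trans e.symm), Subgroup.map_map]
  congr 1
  ext x
  simp

theorem isCharPFunctor_charFunctor {K : Subgroup T} (hK : K.Characteristic) (hK1 : K ≠ ⊥) :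
    Cfsg.IsCharPFunctor.{u} p (charFunctor K) := by
  refine ⟨fun Q _ _ hQ _ => ?_, fun Q R _ _ _ _ φ => ?_⟩
  · by_cases h : Nonempty (T ≃* Q)
    · obtain ⟨e⟩ := h
      rw [charFunctor_iso hK e, Ne, Subgroup.map_eq_bot_iff_of_injective _ e.injective]
      exact hK1
    · rw [charFunctor, dif_neg h]
      haveI := hQ.center_nontrivial
      exact (Subgroup.nontrivial_iff_ne_bot _).1 inferInstance
  · by_cases h : Nonempty (T ≃* Q)
    · obtain ⟨e⟩ := h
      rw [charFunctor_iso hK e, charFunctor_iso hK (e.trans φ), Subgroup.map_map]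
      rfl
    · rw [charFunctor, dif_neg h, charFunctor, dif_neg fun ⟨e⟩ => h ⟨e.trans φ.symm⟩]
      ext x
      rw [Subgroup.mem_center_iff, Subgroup.mem_map]
      refine ⟨fun ⟨y, hy, hyx⟩ g => ?_, fun hx => ⟨φ.symm x, Subgroup.mem_center_iff.2 fun g => ?_,
        φ.apply_symm_apply x⟩⟩
      · rw [← hyx, ← φ.apply_symm_apply g]
        simp only [MulEquiv.coe_toMonoidHom]
        rw [← map_mul, ← map_mul, Subgroup.mem_center_iff.1 hy]
      · apply φ.injective
        rw [map_mul, map_mul, φ.apply_symm_apply]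
        exact hx (φ g)

end functor

variable {p : ℕ} [hp : Fact p.Prime]

section block

variable {G : Type u} [Group G] [Finite G]

/-- An element of the block inverting mod `O_p` has fixed points on `O_p` only in `Z(E)`. -/
theorem fix_le_zz {E B : Subgroup G} (hd : Data p B E) {e : G} (he : e ∈ E) (heQ : e ∉ QQ p E)
    (hcen : ∀ g ∈ E, e⁻¹ * (g * e * g⁻¹) ∈ QQ p E) {x : G} (hx : x ∈ QQ p E)
    (hxe : e * x = x * e) : x ∈ ZZ p E := by
  have hWc : ∀ w ∈ WW p E, ∀ q ∈ QQ p E, q * w = w * q := fun w hw q hq =>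
    Subgroup.mem_centralizer_iff.1 (LocalCGT.omegaOneCenter_le_centralizer (p := p) _ hw) q hq
  have hWN := le_normalizer_ww p E
  -- the fixed points on `W`
  have hW : WW p E ⊓ Subgroup.centralizer ({e} : Set G) = ZZ p E := by
    refine (hd.irrW _ (le_inf inf_le_left fun z hz => ?_) inf_le_left
      (Subgroup.le_normalizer_iff.2 fun g hg w hw => ?_)).resolve_right fun h => heQ (hd.kerW e he fun w hw => ?_)
    · exact Subgroup.mem_centralizer_singleton_iff.2 (Subgroup.mem_centralizer_iff.1 hz.2 e he).symm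
    · have hw' : g * w * g⁻¹ ∈ WW p E := (Subgroup.mem_normalizer_iff.1 (hWN hg) w).1 hw.1
      refine ⟨hw', Subgroup.mem_centralizer_singleton_iff.2 ?_⟩
      obtain ⟨q, hq'⟩ : ∃ q, q = e⁻¹ * (g * e * g⁻¹) := ⟨_, rfl⟩
      have hq : g * w * g⁻¹ * q = q * (g * w * g⁻¹) := (hWc _ hw' q (hq' ▸ hcen g hg)).symm
      have h1 := Subgroup.mem_centralizer_singleton_iff.1 hw.2
      have h2 : g * w * g⁻¹ * (e * q) = e * q * (g * w * g⁻¹) := by
        rw [hq', mul_inv_cancel_left, show g * w * g⁻¹ * (g * e * g⁻¹) = g * (w * e) * g⁻¹ by group, h1]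
        group
      rw [← mul_assoc, mul_assoc e q, ← hq, ← mul_assoc] at h2
      exact mul_right_cancel h2
    · have h1 := Subgroup.mem_centralizer_singleton_iff.1 (h.ge hw).2
      rw [← h1, mul_inv_cancel_right, mul_inv_cancel]
      exact one_mem _
  rcases hd.exc with hQW | ⟨hne, -, hirrQ, hkerQ, hQQ, hEC, -⟩
  · exact hW.le ⟨hQW.le hx, Subgroup.mem_centralizer_singleton_iff.2 hxe.symm⟩
  have hQN := le_normalizer_qq p E
  let V : Subgroup G :=
    { carrier := {y | y ∈ QQ p E ∧ ⁅e, y⁆ ∈ WW p E}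
      one_mem' := ⟨one_mem _, by rw [commutatorElement_one_right]; exact one_mem _⟩
      mul_mem' := fun {a b} ha hb => ⟨mul_mem ha.1 hb.1, by
        rw [show ⁅e, a * b⁆ = ⁅e, a⁆ * (a * ⁅e, b⁆ * a⁻¹) by simp [commutatorElement_def, mul_assoc],
          hWc _ hb.2 a ha.1, mul_inv_cancel_right]
        exact mul_mem ha.2 hb.2⟩
      inv_mem' := fun {a} ha => ⟨inv_mem ha.1, by
        rw [show ⁅e, a⁻¹⁆ = a⁻¹ * ⁅e, a⁆⁻¹ * a by simp [commutatorElement_def, mul_assoc],
          hWc _ ((WW p E).inv_mem ha.2) _ ((QQ p E).inv_mem ha.1), inv_mul_cancel_right]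
        exact (WW p E).inv_mem ha.2⟩ }
  have hWV : WW p E ≤ V := fun w hw => ⟨LocalCGT.omegaOneCenter_le _ hw, by
    rw [commutatorElement_def]
    exact mul_mem ((Subgroup.mem_normalizer_iff.1 (hWN he) w).1 hw) (inv_mem hw)⟩
  have hEV : ∀ g ∈ E, ∀ y ∈ V, g * y * g⁻¹ ∈ V := by
    intro g hg y hy
    have hy' : g * y * g⁻¹ ∈ QQ p E := (Subgroup.mem_normalizer_iff.1 (hQN hg) y).1 hy.1
    refine ⟨hy', ?_⟩
    set q := e⁻¹ * (g * e * g⁻¹)
    have hq : q ∈ QQ p E := hcen g hg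
    have h1 : g * ⁅e, y⁆ * g⁻¹ = ⁅e * q, g * y * g⁻¹⁆ := by
      simp only [q, commutatorElement_def]; group
    have h2 : ⁅q, g * y * g⁻¹⁆ ∈ ZZ p E := hQQ ▸ Subgroup.commutator_mem_commutator hq hy'
    have h3 : e * ⁅q, g * y * g⁻¹⁆ * e⁻¹ = ⁅q, g * y * g⁻¹⁆ := by
      rw [Subgroup.mem_centralizer_iff.1 h2.2 e he, mul_inv_cancel_right]
    have h4 := (Subgroup.mem_normalizer_iff.1 (hWN hg) _).1 hy.2
    rw [h1, show ⁅e * q, g * y * g⁻¹⁆ = e * ⁅q, g * y * g⁻¹⁆ * e⁻¹ * ⁅e, g * y * g⁻¹⁆ by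
      simp [commutatorElement_def, mul_assoc], h3] at h4
    have h5 := (WW p E).mul_mem ((WW p E).inv_mem h2.1) h4
    rwa [inv_mul_cancel_left] at h5
  have hEVn : E ≤ Subgroup.normalizer (V : Set G) := fun g hg =>
    Subgroup.mem_normalizer_iff.2 fun y => ⟨hEV g hg y, fun h => by
      simpa [mul_assoc] using hEV g⁻¹ (inv_mem hg) _ h⟩
  rcases hirrQ V hWV (fun y hy => hy.1) hEVn with h | h
  · refine hW.le ⟨h.le ⟨hx, ?_⟩, Subgroup.mem_centralizer_singleton_iff.2 hxe.symm⟩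
    rw [commutatorElement_eq_one_iff_mul_comm.2 hxe]
    exact one_mem _
  · exact absurd (hkerQ e he fun q hq => by rw [← commutatorElement_def]; exact (h.ge hq).2) heQ

/-- Powers of an element central modulo `O_p`. -/
theorem cen_of_center {E : Subgroup G} {e : G} (he : e ∈ E)
    (hc : QuotientGroup.mk' (Cfsg.pCore p ↥E) ⟨e, he⟩ ∈ Subgroup.center (↥E ⧸ Cfsg.pCore p ↥E))
    {a : G} (ha : a ∈ Subgroup.zpowers e) {g : G} (hg : g ∈ E) :
    a⁻¹ * (g * a * g⁻¹) ∈ QQ p E := by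
  obtain ⟨i, rfl⟩ := ha
  refine ⟨(⟨e, he⟩ : E)⁻¹ ^ i * (⟨g, hg⟩ * (⟨e, he⟩ : E) ^ i * ⟨g, hg⟩⁻¹), ?_, by simp⟩
  haveI : (Cfsg.pCore p ↥E).Normal := Fitting.pCore_normal p
  have h := Subgroup.mem_center_iff.1 (Subgroup.zpow_mem _ hc i) (QuotientGroup.mk' _ ⟨g, hg⟩)
  rw [← map_zpow] at h
  rw [SetLike.mem_coe, ← QuotientGroup.eq_one_iff, ← QuotientGroup.mk'_apply, map_mul, map_mul,
    map_mul, map_zpow, map_inv, map_inv, h, mul_inv_cancel_right, inv_zpow, ← map_zpow,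
    inv_mul_cancel]

/-- A lift of a central involution of `E/O_p(E)` of order prime to `p`. -/
theorem exists_coprime_lift (hp2 : p ≠ 2) {E : Subgroup G} {x : G} (hx : x ∈ E)
    (hs2 : QuotientGroup.mk' (Cfsg.pCore p ↥E) ⟨x, hx⟩ *
      QuotientGroup.mk' (Cfsg.pCore p ↥E) ⟨x, hx⟩ = 1) :
    ∃ (e : G) (he : e ∈ E), e ∈ Subgroup.zpowers x ∧ (orderOf e).Coprime p ∧
      QuotientGroup.mk' (Cfsg.pCore p ↥E) ⟨e, he⟩ = QuotientGroup.mk' (Cfsg.pCore p ↥E) ⟨x, hx⟩ := by
  set a := (orderOf x).factorization p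
  refine ⟨x ^ p ^ a, pow_mem hx _, Subgroup.npow_mem_zpowers x _, ?_, ?_⟩
  · rw [orderOf_pow, Nat.gcd_eq_right (Nat.ordProj_dvd _ _)]
    exact (Nat.coprime_ordCompl hp.out (orderOf_pos x).ne').symm
  · obtain ⟨k, hk⟩ := (hp.out.odd_of_ne_two hp2).pow (n := a)
    rw [show (⟨x ^ p ^ a, pow_mem hx _⟩ : E) = (⟨x, hx⟩ : E) ^ p ^ a from Subtype.ext (by simp),
      map_pow, hk, pow_succ, pow_mul, pow_two, hs2, one_pow, one_mul]

/-- The core of a block is generated by commutators with an element central modulo it. -/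
theorem qq_le_commutator {E B : Subgroup G} (hd : Data p B E) {e : G} (he : e ∈ E)
    (heQ : e ∉ QQ p E) (hcop : (orderOf e).Coprime p)
    (hc : QuotientGroup.mk' (Cfsg.pCore p ↥E) ⟨e, he⟩ ∈ Subgroup.center (↥E ⧸ Cfsg.pCore p ↥E)) :
    QQ p E ≤ ⁅QQ p E, Subgroup.zpowers e⁆ := by
  set Q := QQ p E
  set A := Subgroup.zpowers e
  set X := ⁅Q, A⁆
  have hAE : A ≤ E := Subgroup.zpowers_le.2 he
  have hQN : E ≤ Subgroup.normalizer (Q : Set G) := le_normalizer_qq p E
  have hQp : IsPGroup p Q := PReduced.isPGroup_pCoreOf p E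
  obtain ⟨n, hn⟩ := IsPGroup.iff_card.1 hQp
  have hcard : (Nat.card A).Coprime (Nat.card Q) := by
    rw [hn, Nat.card_zpowers]
    exact hcop.pow_right n
  haveI := hQp.isNilpotent
  have hdec := Coprime.commutator_sup_centralizer (hAE.trans hQN) hcard (Or.inr inferInstance)
  have hXQ : X ≤ Q := Coprime.commutator_le_left_of_le_normalizer (hAE.trans hQN)
  have hfix : Q ⊓ Subgroup.centralizer (A : Set G) ≤ ZZ p E := fun y hy =>
    fix_le_zz hd he heQ (fun g hg => cen_of_center he hc (Subgroup.mem_zpowers e) hg) hy.1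
      (Subgroup.mem_centralizer_iff.1 hy.2 e (Subgroup.mem_zpowers e))
  have hprod : ∀ y ∈ Q, ∃ x ∈ X, ∃ z ∈ ZZ p E, y = x * z := by
    intro y hy
    have hy' : y ∈ X ⊔ ZZ p E := (sup_le_sup_left hfix X) (hdec.ge hy)
    have hN : ZZ p E ≤ Subgroup.normalizer (X : Set G) := (Subgroup.le_centralizer_iff.1
      (le_trans (hXQ.trans (qq_le p E)) (Subgroup.le_centralizer_iff.1 inf_le_right))).trans
      (Subgroup.centralizer_le_normalizer _)
    have hy'' : y ∈ ((X ⊔ ZZ p E : Subgroup G) : Set G) := hy'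
    rw [Subgroup.coe_mul_of_right_le_normalizer_left X (ZZ p E) hN] at hy''
    obtain ⟨x, hx, z, hz, h⟩ := hy''
    exact ⟨x, hx, z, hz, h.symm⟩
  have hzc : ∀ z ∈ ZZ p E, ∀ g ∈ E, g * z = z * g := fun z hz g hg =>
    Subgroup.mem_centralizer_iff.1 hz.2 g hg
  rcases hd.exc with hQW | ⟨-, -, -, -, hQQ, -, -⟩
  · have hab : ∀ u ∈ Q, ∀ v ∈ Q, u * v = v * u := fun u hu v hv =>
      Subgroup.mem_centralizer_iff.1
        (LocalCGT.omegaOneCenter_le_centralizer (p := p) _ (hQW.le hv)) u hu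
    have hEX : E ≤ Subgroup.normalizer (X : Set G) := by
      refine Subgroup.le_normalizer_iff.2 fun g hg y hy => ?_
      have hle : X.map (MulAut.conj g).toMonoidHom ≤ X := by
        rw [Subgroup.map_le_iff_le_comap]
        refine Subgroup.commutator_le.2 fun u hu a ha => ?_
        have hu' : g * u * g⁻¹ ∈ Q := (Subgroup.mem_normalizer_iff.1 (hQN hg) u).1 hu
        have hr := cen_of_center he hc ha hg
        obtain ⟨r, hr'⟩ : ∃ r, r = a⁻¹ * (g * a * g⁻¹) := ⟨_, rfl⟩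
        have h1 : g * ⁅u, a⁆ * g⁻¹ = ⁅g * u * g⁻¹, a * r⁆ := by
          rw [hr']; simp only [commutatorElement_def]; group
        have h2 : ⁅g * u * g⁻¹, r⁆ = 1 :=
          commutatorElement_eq_one_iff_mul_comm.2 (hab _ hu' r (hr' ▸ hr))
        rw [Subgroup.mem_comap, MulEquiv.coe_toMonoidHom, MulAut.conj_apply, h1,
          show ⁅g * u * g⁻¹, a * r⁆ = ⁅g * u * g⁻¹, a⁆ * (a * ⁅g * u * g⁻¹, r⁆ * a⁻¹) by
            simp [commutatorElement_def, mul_assoc], h2, mul_one, mul_inv_cancel, mul_one]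
        exact Subgroup.commutator_mem_commutator hu' ha
      exact hle ⟨y, hy, rfl⟩
    refine hd.comQ.ge.trans (Subgroup.commutator_le.2 fun y hy g hg => ?_)
    obtain ⟨x, hx, z, hz, rfl⟩ := hprod y hy
    rw [show ⁅x * z, g⁆ = x * ⁅z, g⁆ * x⁻¹ * ⁅x, g⁆ by simp [commutatorElement_def, mul_assoc],
      commutatorElement_eq_one_iff_mul_comm.2 (hzc z hz g hg).symm, mul_one, mul_inv_cancel,
      one_mul]
    exact Subgroup.le_normalizer_iff_commutator_le_left.1 hEX
      (Subgroup.commutator_mem_commutator hx hg)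
  · have hZX : ZZ p E ≤ X := by
      refine hQQ.ge.trans (Subgroup.commutator_le.2 fun y hy y' hy' => ?_)
      obtain ⟨x, hx, z, hz, rfl⟩ := hprod y hy
      obtain ⟨x', hx', z', hz', rfl⟩ := hprod y' hy'
      have hxE : x ∈ E := qq_le p E (hXQ hx)
      have hzE : z ∈ E := qq_le p E (LocalCGT.omegaOneCenter_le _ hz.1)
      have hxE' : x' ∈ E := qq_le p E (hXQ hx')
      have hzE' : z' ∈ E := qq_le p E (LocalCGT.omegaOneCenter_le _ hz'.1)
      rw [show ⁅x * z, x' * z'⁆ = x * ⁅z, x' * z'⁆ * x⁻¹ * ⁅x, x' * z'⁆ by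
          simp [commutatorElement_def, mul_assoc],
        commutatorElement_eq_one_iff_mul_comm.2 (hzc z hz _ (mul_mem hxE' hzE')).symm, mul_one,
        mul_inv_cancel, one_mul,
        show ⁅x, x' * z'⁆ = ⁅x, x'⁆ * (x' * ⁅x, z'⁆ * x'⁻¹) by
          simp [commutatorElement_def, mul_assoc],
        commutatorElement_eq_one_iff_mul_comm.2 (hzc z' hz' x hxE), mul_one, mul_inv_cancel, mul_one,
        commutatorElement_def]
      exact mul_mem (mul_mem (mul_mem hx hx') (inv_mem hx)) (inv_mem hx')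
    intro y hy
    obtain ⟨x, hx, z, hz, rfl⟩ := hprod y hy
    exact mul_mem hx (hZX hz)

/-- An element of `C* ∩ E` of order prime to `p`, central and nontrivial modulo `O_p(E)`. -/
theorem exists_central (hp2 : p ≠ 2) {T : Subgroup G} {𝓑 : Set (Subgroup G)}
    (h : Cfsg.HasBaumannBlockStructure p T 𝓑) {E : Subgroup G} (hE : E ∈ 𝓑)
    (hQT : QQ p E ≤ T) :
    ∃ (e : G) (he : e ∈ E), e ∈ Cfsg.cStarOf p T ∧ e ∉ QQ p E ∧ (orderOf e).Coprime p ∧
      QuotientGroup.mk' (Cfsg.pCore p ↥E) ⟨e, he⟩ ∈ Subgroup.center (↥E ⧸ Cfsg.pCore p ↥E) := by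
  haveI : (Cfsg.pCore p ↥E).Normal := Fitting.pCore_normal p
  suffices H : ∃ (x : G) (hx : x ∈ E), x ∈ Cfsg.cStarOf p T ∧
      QuotientGroup.mk' (Cfsg.pCore p ↥E) ⟨x, hx⟩ ∈ Subgroup.center (↥E ⧸ Cfsg.pCore p ↥E) ∧
      QuotientGroup.mk' (Cfsg.pCore p ↥E) ⟨x, hx⟩ ≠ 1 ∧
      QuotientGroup.mk' (Cfsg.pCore p ↥E) ⟨x, hx⟩ *
        QuotientGroup.mk' (Cfsg.pCore p ↥E) ⟨x, hx⟩ = 1 by
    obtain ⟨x, hx, hxC, hxc, hx1, hx2⟩ := H
    obtain ⟨e, he, hez, hcop, heq⟩ := exists_coprime_lift hp2 hx hx2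
    refine ⟨e, he, Subgroup.zpowers_le.2 hxC hez, fun heQ => hx1 ?_, hcop, heq.symm ▸ hxc⟩
    rw [← heq, QuotientGroup.mk'_apply, QuotientGroup.eq_one_iff, ← qq_subgroupOf]
    exact heQ
  rcases h.2.2.2.2.2.2 E hE with ⟨F, instF, instT, m, -, hcard, ⟨iso⟩, hCN⟩ | ⟨h2, -⟩ |
    ⟨-, ⟨iso⟩, hCc⟩
  · classical
    have hne : (-1 : F) ≠ 1 := by
      intro hc
      haveI := CharP.exists F
      obtain ⟨q, hq⟩ := CharP.exists F
      obtain ⟨k, hqp, hk⟩ := FiniteField.card F q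
      have h1 : q ∣ p ^ m := by rw [← hcard, hk]; exact dvd_pow_self q k.pos.ne'
      have hqe : q = p := (Nat.prime_dvd_prime_iff_eq hqp hp.out).1 (hqp.dvd_of_dvd_pow h1)
      subst hqe
      have h2' : ((2 : ℕ) : F) = 0 := by
        rw [Nat.cast_two]
        linear_combination hc.symm
      exact hp2 ((Nat.prime_dvd_prime_iff_eq hqp Nat.prime_two).1 ((CharP.cast_eq_zero_iff F q 2).1 h2'))
    obtain ⟨⟨x, hx⟩, hxs⟩ := QuotientGroup.mk'_surjective (Cfsg.pCore p ↥E)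
      (iso.symm (-1 : Matrix.SpecialLinearGroup (Fin 2) F))
    have hc : QuotientGroup.mk' (Cfsg.pCore p ↥E) ⟨x, hx⟩ ∈
        Subgroup.center (↥E ⧸ Cfsg.pCore p ↥E) := by
      rw [hxs, Subgroup.mem_center_iff]
      intro g
      apply iso.injective
      rw [map_mul, map_mul, iso.apply_symm_apply]
      exact Subtype.ext (by simp)
    refine ⟨x, hx, (hCN.ge ⟨hx, ?_⟩).1, hc, ?_, ?_⟩
    · have hstep : ∀ y ∈ Subgroup.zpowers x, ∀ t ∈ T ⊓ E, y * t * y⁻¹ ∈ T ⊓ E := by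
        intro y hy t ht
        have h1 := cen_of_center hx hc (inv_mem hy) (inv_mem ht.2)
        have h1' : y * t⁻¹ * y⁻¹ * t⁻¹⁻¹ ∈ QQ p E := by simpa [mul_assoc] using h1
        have h2' : y * t * y⁻¹ = ((y * t⁻¹ * y⁻¹ * t⁻¹⁻¹) * t⁻¹)⁻¹ := by group
        rw [h2']
        exact inv_mem (mul_mem ⟨hQT h1', qq_le p E h1'⟩ (inv_mem ht))
      exact Subgroup.mem_normalizer_iff.2 fun t => ⟨hstep x (Subgroup.mem_zpowers x) t, fun ht => by
        simpa [mul_assoc] using hstep x⁻¹ (inv_mem (Subgroup.mem_zpowers x)) _ ht⟩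
    · rw [hxs, Ne, ← iso.apply_eq_iff_eq, iso.apply_symm_apply, map_one]
      intro heq
      apply hne
      simpa using congrArg (fun M : Matrix.SpecialLinearGroup (Fin 2) F =>
        (M : Matrix (Fin 2) (Fin 2) F) 0 0) heq
    · rw [hxs, ← map_mul, show (-1 : Matrix.SpecialLinearGroup (Fin 2) F) * -1 = 1 from
        Subtype.ext (by simp), map_one]
  · exact absurd h2 hp2
  · let i : Matrix.SpecialLinearGroup (Fin 2) (ZMod 3) :=
      ⟨!![0, -1; 1, 0], by rw [Matrix.det_fin_two_of]; decide⟩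
    let j : Matrix.SpecialLinearGroup (Fin 2) (ZMod 3) :=
      ⟨!![1, 1; 1, -1], by rw [Matrix.det_fin_two_of]; decide⟩
    have hmem : (-1 : Matrix.SpecialLinearGroup (Fin 2) (ZMod 3)) ∈
        commutator (Matrix.SpecialLinearGroup (Fin 2) (ZMod 3)) := by
      rw [show (-1 : Matrix.SpecialLinearGroup (Fin 2) (ZMod 3)) = ⁅i, j⁆ by decide]
      exact Subgroup.commutator_mem_commutator (Subgroup.mem_top i) (Subgroup.mem_top j)
    have hc : iso.symm ⟨-1, hmem⟩ ∈ Subgroup.center (↥E ⧸ Cfsg.pCore p ↥E) := by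
      rw [Subgroup.mem_center_iff]
      intro g
      apply iso.injective
      rw [map_mul, map_mul, iso.apply_symm_apply]
      exact Subtype.ext (Subtype.ext (by simp))
    obtain ⟨⟨x, hx⟩, hxC, hxs⟩ := hCc.ge hc
    refine ⟨x, hx, (hxC : x ∈ Cfsg.cStarOf p T ⊓ E).1, by rw [hxs]; exact hc, ?_, ?_⟩
    · rw [hxs, Ne, ← iso.apply_eq_iff_eq, iso.apply_symm_apply, map_one]
      intro heq
      have h1 : (-1 : Matrix.SpecialLinearGroup (Fin 2) (ZMod 3)) = 1 := congrArg Subtype.val heq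
      exact absurd h1 (by decide)
    · rw [hxs, ← map_mul, show (⟨-1, hmem⟩ : commutator (Matrix.SpecialLinearGroup (Fin 2) (ZMod 3))) *
        ⟨-1, hmem⟩ = 1 from Subtype.ext (Subtype.ext (by simp)), map_one]

end block

section core

variable (hlocal : ∀ (X : Type u) [Group X] [Finite X],
  Subgroup.centralizer (Cfsg.pCore p X : Set X) ≤ Cfsg.pCore p X → ∀ T : Sylow p X,
    Cfsg.cStarOf p (T : Subgroup X) ≠ ⊤ → ∃ 𝓑 : Set (Subgroup X),
      Cfsg.HasBaumannBlockStructure p (T : Subgroup X) 𝓑)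

/-- All functors. -/
def allFunctors (p : ℕ) : Set (∀ (Q : Type u) [Group Q], Subgroup Q) :=
  {W | Cfsg.IsCharPFunctor.{u} p W}

theorem normalizer_proper {X : Type u} [Group X] [Finite X] (T : Sylow p X)
    (hbad : ¬ ⁅Cfsg.pCore p X, (⊤ : Subgroup X)⁆ ≤ focalJoin (allFunctors p) (T : Subgroup X))
    {C : Subgroup X} (hCT : C ≤ (T : Subgroup X)) (hC1 : C ≠ ⊥)
    (hCc : (C.subgroupOf (T : Subgroup X)).Characteristic) :
    Subgroup.normalizer (C : Set X) ≠ ⊤ := by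
  intro htop
  haveI := Fitting.pCore_normal (G := X) p
  have hC1' : C.subgroupOf (T : Subgroup X) ≠ ⊥ := fun h => hC1 (by
    rw [← Subgroup.map_subgroupOf_eq_of_le hCT, h, Subgroup.map_bot])
  have hW := isCharPFunctor_charFunctor (p := p) hCc hC1'
  have hval : Cfsg.inducedFunctor (charFunctor (C.subgroupOf (T : Subgroup X))) (T : Subgroup X) = C := by
    rw [Cfsg.inducedFunctor, charFunctor_iso hCc (MulEquiv.refl _)]
    simp [Subgroup.map_subgroupOf_eq_of_le hCT]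
  refine hbad (le_trans ?_ (le_focalJoin
    (show charFunctor (C.subgroupOf (T : Subgroup X)) ∈ allFunctors p from hW) _))
  rw [hval, htop]
  exact le_inf ((Subgroup.commutator_le_left _ ⊤).trans
    (IsPGroup.le_sylow_of_normal (Fitting.pCore_isPGroup p) T))
    (Subgroup.commutator_mono le_top le_rfl)

include hlocal in
/-- `[O_p(X), X]` lies in the focal join of a minimal group of characteristic `p`. -/
theorem core (hp2 : p ≠ 2) {X : Type u} [Group X] [Finite X]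
    (hIH : SmallerOk p (allFunctors.{u} p) X)
    (hX : Subgroup.centralizer (Cfsg.pCore p X : Set X) ≤ Cfsg.pCore p X) (T : Sylow p X) :
    ⁅Cfsg.pCore p X, (⊤ : Subgroup X)⁆ ≤ focalJoin (allFunctors p) (T : Subgroup X) := by
  by_contra hbad
  haveI hDn := Fitting.pCore_normal (G := X) p
  set D := Cfsg.pCore p X with hD
  have h𝓦 : ∀ W ∈ allFunctors.{u} p, Cfsg.IsCharPFunctor.{u} p W := fun W hW => hW
  set A := focalJoin (allFunctors p) (T : Subgroup X) ⊓ D with hA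
  have hT : (T : Subgroup X) ≠ ⊥ := by
    intro h
    apply hbad
    rw [show D = ⊥ from le_bot_iff.1 (h ▸ LocalCGT.pCore_le_sylow T), Subgroup.commutator_bot_left]
    exact bot_le
  let M2 : Subgroup X :=
    { carrier := {g | g ∈ Subgroup.normalizer (A : Set X) ∧ ∀ d ∈ D, ⁅d, g⁆ ∈ A}
      one_mem' := ⟨one_mem _, fun d _ => by rw [commutatorElement_one_right]; exact one_mem _⟩
      mul_mem' := fun {g h} hg hh => ⟨mul_mem hg.1 hh.1, fun d hd => by
        rw [show ⁅d, g * h⁆ = ⁅d, g⁆ * (g * ⁅d, h⁆ * g⁻¹) by simp [commutatorElement_def, mul_assoc]]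
        exact mul_mem (hg.2 d hd) ((Subgroup.mem_normalizer_iff.1 hg.1 _).1 (hh.2 d hd))⟩
      inv_mem' := fun {g} hg => ⟨Subgroup.inv_mem _ hg.1, fun d hd => by
        rw [show ⁅d, g⁻¹⁆ = g⁻¹ * ⁅d, g⁆⁻¹ * g⁻¹⁻¹ by simp [commutatorElement_def, mul_assoc]]
        exact (Subgroup.mem_normalizer_iff.1 (Subgroup.inv_mem _ hg.1) _).1
          (A.inv_mem (hg.2 d hd))⟩ }
  have hover : ∀ H : Subgroup X, (T : Subgroup X) ≤ H → H ≠ ⊤ → H ≤ M2 := fun H hTH hH g hg =>
    ⟨le_normalizer_of_overgroup h𝓦 hIH T hTH hH hg,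
      fun d hd => commutator_mem_of_overgroup h𝓦 hIH T hTH hH hd hg⟩
  have hM2 : M2 ≠ ⊤ := fun h => hbad ((Subgroup.commutator_le.2 fun d hd g _ =>
    (show g ∈ M2 from h ▸ Subgroup.mem_top g).2 d hd).trans inf_le_left)
  have hC : Cfsg.cStarOf p (T : Subgroup X) ≤ M2 := by
    refine (BlockNear.cStarOf_le T hT).trans (iSup_le fun C => ?_)
    obtain ⟨C, hCT, hC1, hCc⟩ := C
    refine hover _ ?_ (normalizer_proper T hbad hCT hC1 hCc)
    haveI := hCc
    exact (Subgroup.normal_subgroupOf_iff_le_normalizer hCT).1 inferInstance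
  obtain ⟨𝓑, hB⟩ := hlocal X hX T fun h => hM2 (top_le_iff.1 (h ▸ hC))
  refine hM2 (top_le_iff.1 (hB.2.2.2.1.ge.trans (sup_le hC (sSup_le fun E hE => ?_))))
  have hsb : SB p E := sb_of_block hX ⟨T, hB.1 E hE⟩ (BlockNear.isSubnormal_of_mem hB hE)
  have hQD : QQ p E ≤ D := hsb.qq_le_core
  obtain ⟨e, he, heC, heQ, hcop, hc⟩ :=
    exists_central hp2 hB hE (hQD.trans (LocalCGT.pCore_le_sylow T))
  have hQA : QQ p E ≤ A := by
    refine (qq_le_commutator (data_of_block (hB.1 E hE)) he heQ hcop hc).trans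
      (Subgroup.commutator_le.2 fun q hq a ha => ?_)
    exact (Subgroup.zpowers_le.2 (hC heC) ha : a ∈ M2).2 q (hQD hq)
  have hcomm : ∀ d ∈ D, ∀ g ∈ E, ⁅d, g⁆ ∈ A := fun d hd g hg =>
    hQA (hsb.core_commutator_le (Subgroup.commutator_mem_commutator hd hg))
  intro g hg
  refine ⟨Subgroup.le_normalizer_iff.2 (fun h hh a ha => ?_) hg, fun d hd => hcomm d hd g hg⟩
  rw [show h * a * h⁻¹ = a * ⁅a⁻¹, h⁆ by simp [commutatorElement_def, mul_assoc]]
  exact mul_mem ha (hcomm _ (inv_mem ha.2) h hh)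

include hlocal in
/-- The focal subgroup from the characteristic subgroups. -/
theorem main (hp2 : p ≠ 2) {G : Type u} [Group G] [Finite G] (S : Sylow p G)
    (hS : (S : Subgroup G) ≠ ⊥) :
    (S : Subgroup G) ⊓ commutator G =
      ⨆ K : {K : Subgroup ↥(S : Subgroup G) // K ≠ ⊥ ∧ K.Characteristic},
        (S : Subgroup G) ⊓ ⁅Subgroup.normalizer
          ((((K : Subgroup ↥(S : Subgroup G))).map (S : Subgroup G).subtype : Subgroup G) : Set G),
          Subgroup.normalizer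
          ((((K : Subgroup ↥(S : Subgroup G))).map (S : Subgroup G).subtype : Subgroup G) : Set G)⁆ := by
  have h𝓦 : ∀ W ∈ allFunctors.{u} p, Cfsg.IsCharPFunctor.{u} p W := fun W hW => hW
  have hne : (allFunctors.{u} p).Nonempty := ⟨_, isCharPFunctor_kInfUpper p⟩
  refine le_antisymm ?_ (iSup_le fun K =>
    inf_le_inf_left _ (Subgroup.commutator_mono le_top le_top))
  refine (ok_of_core h𝓦 (fun X _ _ _ T => derived_le_focalJoin h𝓦 hne T.2)
    (fun X _ _ _ hIH hX T => core hlocal hp2 hIH hX T) (Sect.refl G) S).trans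
    (iSup₂_le fun W hW => ?_)
  haveI : Nontrivial (S : Subgroup G) := (Subgroup.nontrivial_iff_ne_bot _).2 hS
  have hW' : Cfsg.IsCharPFunctor.{u} p W := hW
  exact le_iSup (fun K : {K : Subgroup ↥(S : Subgroup G) // K ≠ ⊥ ∧ K.Characteristic} =>
    (S : Subgroup G) ⊓ ⁅Subgroup.normalizer
      ((((K : Subgroup ↥(S : Subgroup G))).map (S : Subgroup G).subtype : Subgroup G) : Set G),
      Subgroup.normalizer
      ((((K : Subgroup ↥(S : Subgroup G))).map (S : Subgroup G).subtype : Subgroup G) : Set G)⁆)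
    ⟨W ↥(S : Subgroup G), hW'.1 _ S.2 inferInstance,
      Subgroup.characteristic_iff_map_eq.2 fun φ => hW'.2 _ _ S.2 φ⟩

end core

end CfsgLib.CGTFocal
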