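import Cfsg.Agent.Lib.CGT.SymPair
import Cfsg.Agent.Lib.CGT.SymFrame

/-!
Planes, pairwise perpendicular or linked, without a chain: linked planes form components, each an
even-weight module centralised by the other components.
-/

set_option autoImplicit false
set_option linter.unusedSectionVars false

namespace CfsgLib.CGT

variable {P V : Type*} [Group P] [AddCommGroup V]

/-- A family of planes in which any two are perpendicular or linked and which has no chain. -/
structure PlaneFamily (φ : P →* AddMonoid.End V) {ι : Type*} (c : ι → P) (e x : ι → V) : Prop where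
  two : ∀ v : V, v + v = 0
  plane : ∀ i, Plane φ (c i) (e i) (x i)
  rel : ∀ i j, i ≠ j → (Perp φ (c i) (e j) (x j) ∧ Perp φ (c j) (e i) (x i)) ∨
    (Linked φ (c i) (e i) (x i) (e j) (x j) ∧ Linked φ (c j) (e j) (x j) (e i) (x i))
  no_chain : ∀ i j k, i ≠ k → Linked φ (c i) (e i) (x i) (e j) (x j) →
    Linked φ (c j) (e j) (x j) (e k) (x k) → ¬ Perp φ (c i) (e k) (x k)

namespace PlaneFamily

variable {φ : P →* AddMonoid.End V} {ι : Type*} {c : ι → P} {e x : ι → V}

theorem not_linked_self (h : PlaneFamily φ c e x) (i : ι) :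
    ¬ Linked φ (c i) (e i) (x i) (e i) (x i) := fun q =>
  (h.plane i).ne_x h.two (((h.plane i).act_e.symm.trans q.1).symm)

theorem linked_symm (h : PlaneFamily φ c e x) {i j : ι}
    (q : Linked φ (c i) (e i) (x i) (e j) (x j)) : Linked φ (c j) (e j) (x j) (e i) (x i) := by
  have hij : i ≠ j := fun r => h.not_linked_self i (r ▸ q)
  rcases h.rel i j hij with ⟨r, -⟩ | ⟨-, r⟩
  · exfalso
    have h1 := q.2
    rw [r.2, add_assoc, left_eq_add] at h1
    exact (h.plane i).ne_x h.two (by
      calc e i = e i + (x i + x i) := by rw [h.two, add_zero]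
        _ = e i + x i + x i := by abel
        _ = x i := by rw [h1, zero_add])
  · exact r

theorem linked_trans (h : PlaneFamily φ c e x) {i j k : ι} (hik : i ≠ k)
    (q : Linked φ (c i) (e i) (x i) (e j) (x j)) (q' : Linked φ (c j) (e j) (x j) (e k) (x k)) :
    Linked φ (c i) (e i) (x i) (e k) (x k) :=
  ((h.rel i k hik).resolve_left fun r => h.no_chain i j k hik q q' r.1).1

/-- The component of a plane: pairwise linked, and centralised by the rest. -/
theorem exists_component [Finite ι] (h : PlaneFamily φ c e x) (i₀ : ι) :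
    ∃ (m : ℕ) (f : Fin m ↪ ι), i₀ ∈ Set.range f ∧ PlaneData φ (c ∘ f) (e ∘ f) (x ∘ f) ∧
      ∀ k, k ∉ Set.range f → ∀ l, Perp φ (c (f l)) (e k) (x k) ∧ Perp φ (c k) (e (f l)) (x (f l)) := by
  classical
  haveI := Fintype.ofFinite ι
  let s : Finset ι := Finset.univ.filter fun j => j = i₀ ∨ Linked φ (c i₀) (e i₀) (x i₀) (e j) (x j)
  have hs : ∀ j, j ∈ s ↔ j = i₀ ∨ Linked φ (c i₀) (e i₀) (x i₀) (e j) (x j) := fun j => by simp [s]
  let f : Fin s.card ↪ ι := s.equivFin.symm.toEmbedding.trans (Function.Embedding.subtype _)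
  have hf : ∀ l, f l ∈ s := fun l => (s.equivFin.symm l).2
  have hrange : ∀ j, j ∈ s → j ∈ Set.range f := fun j hj => ⟨s.equivFin ⟨j, hj⟩, by simp [f]⟩
  have hi₀ : i₀ ∈ s := (hs i₀).2 (Or.inl rfl)
  have hlinked : ∀ a b, a ∈ s → b ∈ s → a ≠ b → Linked φ (c a) (e a) (x a) (e b) (x b) := by
    intro a b ha hb hne
    rcases (hs a).1 ha with rfl | qa <;> rcases (hs b).1 hb with rfl | qb
    · exact absurd rfl hne
    · exact qb
    · exact h.linked_symm qa
    · exact h.linked_trans hne (h.linked_symm qa) qb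
  refine ⟨s.card, f, hrange _ hi₀, planeData_of_linked h.two h.plane (Finset.card_pos.2 ⟨i₀, hi₀⟩) f
    fun a b hab => hlinked _ _ (hf a) (hf b) fun q => hab (f.injective q), fun k hk l => ?_⟩
  have hks : k ∉ s := fun q => hk (hrange k q)
  have hne : f l ≠ k := fun q => hk ⟨l, q⟩
  refine (h.rel (f l) k hne).resolve_right fun r => hks ((hs k).2 ?_)
  rcases (hs (f l)).1 (hf l) with q | q
  · exact Or.inr (q ▸ r.1)
  · by_cases hik : i₀ = k
    · exact Or.inl hik.symm
    · exact Or.inr (h.linked_trans hik q r.1)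

end PlaneFamily

end CfsgLib.CGT
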